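import Groth.Agent.L16.ProjSpace.RelTwist
import Groth.Agent.L12.PushFree.RegBC
import Groth.Agent.L29.DCoh.PushTilde
import Groth.Agent.L29.DCoh.QCohOps
import Groth.Agent.L29.DCoh.RpushColim
import Groth.Agent.L29.LocFree
import Groth.Agent.L19.ConormalAffine
import Groth.Agent.L12.PushFree.KReg
import Groth.Agent.L20.ResDescent
import Groth.Agent.L17.AffinePush
import Groth.Agent.L16.CohLinear
import Groth.Agent.L00.TensorQCoh
import Groth.Agent.S12131
import Mathlib.Algebra.TrivSqZeroExt.Basic
import Mathlib.CategoryTheory.Limits.Constructions.Filtered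

/-! Twists of pullbacks of quasi-coherent modules on projective space: cohomology out of the top degree. -/

set_option autoImplicit false
set_option linter.style.haveILetI false
set_option backward.isDefEq.respectTransparency false
set_option backward.isDefEq.respectTransparency.types false
universe u

open CategoryTheory CategoryTheory.Limits AlgebraicGeometry TopologicalSpace Opposite

noncomputable section

namespace Groth.L29.TwistNeg

/-- A module is a retract of a ring. -/
theorem exists_ring_retract (A : CommRingCat.{u}) (M0 : ModuleCat.{u} A) :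
    ∃ (R : CommRingCat.{u}) (φ : A ⟶ R) (i0 : M0 ⟶ (ModuleCat.restrictScalars φ.hom).obj (ModuleCat.of R R))
      (p0 : (ModuleCat.restrictScalars φ.hom).obj (ModuleCat.of R R) ⟶ M0), i0 ≫ p0 = 𝟙 M0 := by
  letI : Module (↑A)ᵐᵒᵖ M0 := Module.compHom _ (RingEquiv.toOpposite (↑A)).symm.toRingHom
  haveI : IsCentralScalar (↑A) M0 := ⟨fun _ _ => rfl⟩
  let R : CommRingCat.{u} := CommRingCat.of (TrivSqZeroExt A M0)
  let φ : A ⟶ R := CommRingCat.ofHom (TrivSqZeroExt.inlHom A M0)
  let N : ModuleCat.{u} A := (ModuleCat.restrictScalars φ.hom).obj (ModuleCat.of R R)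
  let toN : TrivSqZeroExt A M0 → N := fun t => t
  let il : M0 →ₗ[A] N :=
    { toFun := fun m => toN (TrivSqZeroExt.inr m)
      map_add' := fun a b => TrivSqZeroExt.inr_add A a b
      map_smul' := fun a m => (TrivSqZeroExt.inl_mul_inr a m).symm }
  let pl : N →ₗ[A] M0 :=
    { toFun := fun t => TrivSqZeroExt.snd (show TrivSqZeroExt A M0 from t)
      map_add' := fun a b => TrivSqZeroExt.snd_add (show TrivSqZeroExt A M0 from a) (show TrivSqZeroExt A M0 from b)
      map_smul' := fun a t => by
        show TrivSqZeroExt.snd ((TrivSqZeroExt.inl a : TrivSqZeroExt A M0) * (show TrivSqZeroExt A M0 from t)) = _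
        rw [TrivSqZeroExt.snd_mul]
        simp }
  refine ⟨R, φ, ConcreteCategory.ofHom (C := ModuleCat.{u} A) (X := M0) (Y := N) il, ConcreteCategory.ofHom (C := ModuleCat.{u} A) (X := N) (Y := M0) pl, ModuleCat.hom_ext (LinearMap.ext fun m => ?_)⟩
  exact TrivSqZeroExt.snd_inr A m

/-- A quasi-coherent module on an affine scheme is a retract of the direct image of the structure sheaf of a
square-zero extension. -/
theorem exists_retract (A : CommRingCat.{u}) (M : (Spec A).Modules) [Coh.IsQCoh M] :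
    ∃ (R : CommRingCat.{u}) (φ : A ⟶ R)
      (i : M ⟶ (Scheme.Modules.pushforward (Spec.map φ)).obj (Coh.structureModule (Spec R)))
      (p : (Scheme.Modules.pushforward (Spec.map φ)).obj (Coh.structureModule (Spec R)) ⟶ M), i ≫ p = 𝟙 M := by
  let M0 : ModuleCat.{u} A := (moduleSpecΓFunctor (R := A)).obj M
  obtain ⟨R, φ, i0, p0, hip⟩ := exists_ring_retract A M0
  let N : ModuleCat.{u} A := (ModuleCat.restrictScalars φ.hom).obj (ModuleCat.of R R)
  let e : (Scheme.Modules.pushforward (Spec.map φ)).obj (Coh.structureModule (Spec R)) ≅ (tilde.functor A).obj N :=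
    (Scheme.Modules.pushforward (Spec.map φ)).mapIso (tildeSelf (R := R)).symm ≪≫
      Groth.L29.DC.PushTilde.pushTildeApp φ (ModuleCat.of R R)
  let c : (tilde.functor A).obj M0 ≅ M := Groth.L18.TildeF.counitIso M
  refine ⟨R, φ, c.inv ≫ (tilde.functor A).map i0 ≫ e.inv, e.hom ≫ (tilde.functor A).map p0 ≫ c.hom, ?_⟩
  simp only [Category.assoc, Iso.inv_hom_id_assoc]
  rw [← Functor.map_comp_assoc, hip, CategoryTheory.Functor.map_id, Category.id_comp, Iso.inv_hom_id]

variable (n : ℕ)

/-- the cohomology on a standard projective space -/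
theorem subsingleton_HH_twistOver_spec (R : Type u) [CommRing R] (d : ℤ) (q : ℕ) (hd : d < 0) (hq : q ≠ n) :
    Subsingleton (Coh.HH (CohB1.ProjSpaceOver n (Spec (CommRingCat.of R))) (Twist.twistOver n _ d) q) := by
  haveI := Groth.L16.ProjSpace.subsingleton_HH_twist n R d q (by omega) (by omega)
  obtain ⟨e⟩ := Groth.L16.ProjSpace.nonempty_HU_twistOver n (isAffineOpen_top (Spec (CommRingCat.of R))) d q
  haveI : Subsingleton (Coh.HH (CohB1.ProjSpace n Γ(Spec (CommRingCat.of R), ⊤))
      (Twist.twistProjSpace n Γ(Spec (CommRingCat.of R), ⊤) d) q) :=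
    Groth.L16.ProjSpace.subsingleton_HH_twist n _ d q (by omega) (by omega)
  have hu := e.toEquiv.subsingleton
  rw [show (CohB1.ProjSpaceOver.toBase n (Spec (CommRingCat.of R))) ⁻¹ᵁ ⊤ = ⊤ from rfl] at hu
  haveI := hu
  exact ((Groth.L17.hTopEquiv (X := (CohB1.ProjSpaceOver n (Spec (CommRingCat.of R))).toTopCat) _ q)).toEquiv.subsingleton

/-- Base change of the structure sheaf along an affine morphism. -/
theorem nonempty_bc {S' S : Scheme.{u}} (s : S' ⟶ S) [IsAffineHom s] :
    Nonempty ((Scheme.Modules.pullback (CohB1.ProjSpaceOver.toBase n S)).obj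
        ((Scheme.Modules.pushforward s).obj (Coh.structureModule S')) ≅
      (Scheme.Modules.pushforward (KRR.projSpaceMap n s)).obj (Coh.structureModule (CohB1.ProjSpaceOver n S'))) := by
  haveI : Coh.IsQCoh (Coh.structureModule S') := Groth.L19.Conormal.isQCoh_structureModule _
  have hsq := (Groth.L12.PushFree.isPullback_projSpaceMap n s).flip
  haveI := Groth.Agent.S12131.result s (CohB1.ProjSpaceOver.toBase n S) (CohB1.ProjSpaceOver.toBase n S')
    (KRR.projSpaceMap n s) hsq (Coh.structureModule S')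
  exact ⟨@asIso _ _ _ _ _ this ≪≫
    (Scheme.Modules.pushforward (KRR.projSpaceMap n s)).mapIso (Groth.L29.LocFree.pullbackUnitIso _)⟩

/-- The twist of the pullback of the direct image of the structure sheaf. -/
theorem nonempty_push_twist {S' S : Scheme.{u}} (s : S' ⟶ S) [IsAffineHom s] (d : ℤ) :
    Nonempty (CohB1.tensorMod ((Scheme.Modules.pullback (CohB1.ProjSpaceOver.toBase n S)).obj
        ((Scheme.Modules.pushforward s).obj (Coh.structureModule S'))) (Twist.twistOver n S d) ≅
      (Scheme.Modules.pushforward (KRR.projSpaceMap n s)).obj (Twist.twistOver n S' d)) := by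
  obtain ⟨eO⟩ := nonempty_bc n s
  obtain ⟨tw⟩ := Groth.L12.PushFree.nonempty_pullback_twistOver n s d
  haveI := Groth.L17.ProjFormula.isIso_θ (KRR.projSpaceMap n s) (Twist.twistOver n S d)
    (Coh.structureModule (CohB1.ProjSpaceOver n S')) (Groth.L12.KReg.isFinLocFree_O d)
  exact ⟨Groth.L00.Tensor.tensorIso eO (Iso.refl _) ≪≫ Groth.L00.Tensor.tensorComm _ _ ≪≫
    asIso (Groth.L17.ClosedPush.θ (KRR.projSpaceMap n s) _ (Twist.twistOver n S d)) ≪≫
    (Scheme.Modules.pushforward (KRR.projSpaceMap n s)).mapIso (Groth.L00.Tensor.tensorUnitRight _ ≪≫ tw)⟩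

/-- A retract of a module with no cohomology has none. -/
theorem subsingleton_HH_of_retract {X : Scheme.{u}} {M N : X.Modules} (i : M ⟶ N) (p : N ⟶ M) (h : i ≫ p = 𝟙 M)
    (q : ℕ) [Subsingleton (Coh.HH X N q)] : Subsingleton (Coh.HH X M q) := by
  refine subsingleton_of_forall_eq 0 fun x => ?_
  rw [← Groth.L16.CohLinear.hmap_id q x, ← h, Groth.L16.CohLinear.hmap_comp,
    Subsingleton.elim (Groth.L16.CohLinear.hmap i q x) 0, map_zero]

/-- The key vanishing on projective space over an affine scheme. -/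
theorem subsingleton_HH_pullback_twist (A : CommRingCat.{u}) (M : (Spec A).Modules) [Coh.IsQCoh M] (d : ℤ) (q : ℕ)
    (hd : d < 0) (hq : q ≠ n) :
    Subsingleton (Coh.HH (CohB1.ProjSpaceOver n (Spec A))
      (CohB1.tensorMod ((Scheme.Modules.pullback (CohB1.ProjSpaceOver.toBase n (Spec A))).obj M)
        (Twist.twistOver n (Spec A) d)) q) := by
  obtain ⟨R, φ, i, p, hip⟩ := exists_retract A M
  obtain ⟨ψ⟩ := nonempty_push_twist n (Spec.map φ) d
  haveI : IsAffineHom (KRR.projSpaceMap n (Spec.map φ)) :=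
    MorphismProperty.of_isPullback (Groth.L12.PushFree.isPullback_projSpaceMap n (Spec.map φ)).flip inferInstance
  haveI : Coh.IsQCoh (Twist.twistOver n (Spec R) d) :=
    Groth.L29.DC.PCQCoh.isQCoh_of_isFinLocFree (Groth.L12.KReg.isFinLocFree_O d)
  haveI h1 : Subsingleton (Coh.HH _ (Twist.twistOver n (Spec R) d) q) := subsingleton_HH_twistOver_spec n R d q hd hq
  obtain ⟨ep⟩ := Groth.L17.nonempty_HH_push_of_isAffineHom (KRR.projSpaceMap n (Spec.map φ)) (Twist.twistOver n (Spec R) d) q
  haveI h3 := ep.symm.toEquiv.subsingleton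
  haveI h4 := (Groth.L17.BC.HHequiv ψ q).toEquiv.subsingleton
  refine subsingleton_HH_of_retract
    (Groth.L00.Tensor.tensorMap ((Scheme.Modules.pullback _).map i) (𝟙 _))
    (Groth.L00.Tensor.tensorMap ((Scheme.Modules.pullback _).map p) (𝟙 _)) ?_ q
  rw [← Groth.L00.Tensor.tensorMap_comp, ← Functor.map_comp, hip, CategoryTheory.Functor.map_id, Category.comp_id]
  exact Groth.L00.Tensor.tensorMap_id _ _

variable {Y : Scheme.{u}}

/-- one summand -/
theorem isZero_RpushAb_single (G : Y.Modules) [Coh.IsQCoh G] (d : ℤ) (q : ℕ) (hd : d < 0) (hq : q ≠ n) :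
    IsZero ((Coh.RpushAb (CohB1.ProjSpaceOver.toBase n Y) q).obj (Coh.toAb
      (CohB1.tensorMod ((Scheme.Modules.pullback (CohB1.ProjSpaceOver.toBase n Y)).obj G) (Twist.twistOver n Y d)))) := by
  let F := CohB1.tensorMod ((Scheme.Modules.pullback (CohB1.ProjSpaceOver.toBase n Y)).obj G) (Twist.twistOver n Y d)
  obtain ⟨e⟩ := Groth.L10.SiteCoh.nonempty_Rpush_iso (Opens.grothendieckTopology Y.toTopCat)
    (Opens.map (CohB1.ProjSpaceOver.toBase n Y).base) (Coh.toAb F) q
  refine (Groth.L10.SiteCoh.isZero_presheafToSheaf _ _ fun V x => ?_).of_iso e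
  refine ⟨⟨{ arrows := fun W g => ((Opens.map (CohB1.ProjSpaceOver.toBase n Y).base).op ⋙
              (Coh.toAb F).cohomologyPresheaf q).map g.op x = 0
             downward_closed := fun {W W'} g hg g' => by
              simp only [op_comp, Functor.map_comp, ConcreteCategory.comp_apply, hg, map_zero] }, fun y hy => ?_⟩, fun a => a.hf⟩
  obtain ⟨W, hW, hyW, hWV⟩ := (Opens.isBasis_iff_nbhd.1 Y.isBasis_affineOpens) hy
  refine ⟨W, homOfLE hWV, @Subsingleton.elim _ ?_ _ _, hyW⟩
  let b : Spec Γ(Y, W) ⟶ Y := hW.fromSpec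
  let j := KRR.projSpaceMap n b
  have hsq := Groth.L12.PushFree.isPullback_projSpaceMap n b
  haveI : IsOpenImmersion b := inferInstanceAs (IsOpenImmersion hW.fromSpec)
  haveI : IsOpenImmersion j := MorphismProperty.of_isPullback hsq.flip inferInstance
  have hrange : j.opensRange = (CohB1.ProjSpaceOver.toBase n Y) ⁻¹ᵁ W := by
    refine Opens.ext ?_
    show Set.range (KRR.projSpaceMap n b) = (CohB1.ProjSpaceOver.toBase n Y) ⁻¹' (W : Set Y)
    rw [← hW.range_fromSpec]
    rw [← hsq.isoPullback_hom_fst, Scheme.Hom.comp_base, TopCat.coe_comp, Set.range_comp,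
      Set.range_eq_univ.2 hsq.isoPullback.hom.surjective, Set.image_univ]
    exact Scheme.Pullback.range_fst _ _
  obtain ⟨e'⟩ := Groth.L17.nonempty_hu_image j (⊤ : (CohB1.ProjSpaceOver n (Spec Γ(Y, W))).Opens) (Coh.toAb F) q
  rw [Scheme.Hom.image_top_eq_opensRange, hrange] at e'
  obtain ⟨tw⟩ := Groth.L12.PushFree.nonempty_pullback_twistOver n b d
  haveI : Coh.IsQCoh ((Scheme.Modules.pullback b).obj G) := Groth.L16.AffineBC.isQCoh_pullback b G
  let i : F.restrict j ≅ CohB1.tensorMod
      ((Scheme.Modules.pullback (CohB1.ProjSpaceOver.toBase n (Spec Γ(Y, W)))).obj ((Scheme.Modules.pullback b).obj G))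
      (Twist.twistOver n (Spec Γ(Y, W)) d) :=
    (Scheme.Modules.restrictFunctorIsoPullback j).app F ≪≫ (Groth.L29.DC.PullTensor.pullTensor j _ _).symm ≪≫
      Groth.L00.Tensor.tensorIso ((Scheme.Modules.pullbackComp j _).app G ≪≫
        (Scheme.Modules.pullbackCongr hsq.w).app G ≪≫ ((Scheme.Modules.pullbackComp _ b).app G).symm) tw
  haveI := subsingleton_HH_pullback_twist n Γ(Y, W) ((Scheme.Modules.pullback b).obj G) d q hd hq
  exact (e'.trans ((Groth.L17.hTopEquiv (X := (CohB1.ProjSpaceOver n (Spec Γ(Y, W))).toTopCat) _ q).symm.trans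
    (Groth.L17.BC.HHequiv i q).toAddEquiv)).toEquiv.subsingleton

/-- The vanishing for a direct sum. -/
theorem isZero_RpushAb_coprod {ι : Type u} (G : ι → Y.Modules) (hG : ∀ j, Coh.IsQCoh (G j)) (d : ι → ℤ)
    (hd : ∀ j, d j < 0) (q : ℕ) (hq : q ≠ n) :
    IsZero ((Coh.RpushAb (CohB1.ProjSpaceOver.toBase n Y) q).obj (Coh.toAb
      (∐ fun j => CohB1.tensorMod ((Scheme.Modules.pullback (CohB1.ProjSpaceOver.toBase n Y)).obj (G j))
        (Twist.twistOver n Y (d j))))) := by
  classical
  let f := CohB1.ProjSpaceOver.toBase n Y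
  let P : Discrete ι ⥤ (CohB1.ProjSpaceOver n Y).Modules := Discrete.functor fun j =>
    CohB1.tensorMod ((Scheme.Modules.pullback f).obj (G j)) (Twist.twistOver n Y (d j))
  let T := Groth.L17.toAbShF (CohB1.ProjSpaceOver n Y) ⋙ Coh.RpushAb f q
  haveI := Groth.L29.DC.RpushColim.preservesColimitsOfShape_toAbShF (Finset (Discrete ι)) (CohB1.ProjSpaceOver n Y)
  haveI := Groth.L09.CohColim.preservesColimitsOfShape_RpushAb f q (Finset (Discrete ι))
  haveI : (Groth.L17.toAbShF (CohB1.ProjSpaceOver n Y)).Additive :=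
    inferInstanceAs (SheafOfModules.toSheaf _).Additive
  haveI : T.Additive := inferInstance
  haveI : ∀ (J : Type u) [Finite J], PreservesColimitsOfShape (Discrete J) T := fun J _ => inferInstance
  let c := CoproductsFromFiniteFiltered.liftToFinsetColimitCocone P
  let e : (∐ fun j => CohB1.tensorMod ((Scheme.Modules.pullback f).obj (G j)) (Twist.twistOver n Y (d j))) ≅
      colimit (CoproductsFromFiniteFiltered.liftToFinsetObj P) :=
    (colimit.isColimit P).coconePointUniqueUpToIso c.isColimit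
  refine IsZero.of_iso ?_ (T.mapIso e)
  refine IsColimit.isZero_pt (isColimitOfPreserves T (colimit.isColimit _)) (Functor.isZero _ fun t => ?_)
  refine IsZero.of_iso ?_ (PreservesCoproduct.iso T (fun x : t => P.obj x.1))
  refine IsColimit.isZero_pt (colimit.isColimit _) (Functor.isZero _ fun x => ?_)
  haveI := hG x.as.1.as
  exact isZero_RpushAb_single n (G x.as.1.as) (d x.as.1.as) q (hd x.as.1.as) hq

end Groth.L29.TwistNeg
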